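import Mathlib.Algebra.Homology.DerivedCategory.Fractions
import Mathlib.Algebra.Homology.HomologicalComplexLimits
import Mathlib.Algebra.Homology.HomologicalComplexAbelian
import Mathlib.CategoryTheory.Abelian.GrothendieckAxioms.Basic
import Mathlib.CategoryTheory.Abelian.FunctorCategory
import Mathlib.CategoryTheory.Limits.Preserves.Shapes.Products

/-!
Exact products: products of quasi-isomorphisms, and products in the derived category.
-/

set_option autoImplicit false
set_option backward.isDefEq.respectTransparency false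

universe w v u t

open CategoryTheory CategoryTheory.Limits

namespace Groth.Agent.ExactProd8

variable {B : Type u} [Category.{v} B] [Abelian B] {T : Type t}

/-- A family of complexes as a complex of families. -/
noncomputable def fam (X : T → CochainComplex B ℤ) : CochainComplex (Discrete T ⥤ B) ℤ where
  X i := Discrete.functor fun a => (X a).X i
  d i j := Discrete.natTrans fun a => (X a.as).d i j
  shape i j h := by ext a; exact (X a.as).shape i j h
  d_comp_d' i j l _ _ := by ext a; exact (X a.as).d_comp_d i j l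

noncomputable def famMap {X Y : T → CochainComplex B ℤ} (f : ∀ a, X a ⟶ Y a) : fam X ⟶ fam Y where
  f i := Discrete.natTrans fun a => (f a.as).f i
  comm' i j _ := by ext a; exact (f a.as).comm i j

theorem exactAt_of_eval (K : CochainComplex (Discrete T ⥤ B) ℤ) (i : ℤ)
    (h : ∀ a, (((evaluation (Discrete T) B).obj a).mapHomologicalComplex (ComplexShape.up ℤ)).obj K |>.ExactAt i) :
    K.ExactAt i := by
  rw [HomologicalComplex.exactAt_iff, ShortComplex.exact_iff_isZero_homology]
  refine Functor.isZero _ fun a => ?_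
  have := (ShortComplex.exact_iff_isZero_homology _).1 ((HomologicalComplex.exactAt_iff _ _).1 (h a))
  exact this.of_iso ((K.sc i).mapHomologyIso ((evaluation (Discrete T) B).obj a)).symm

theorem quasiIso_famMap {X Y : T → CochainComplex B ℤ} (f : ∀ a, X a ⟶ Y a) (hf : ∀ a, QuasiIso (f a)) :
    QuasiIso (famMap f) := by
  refine ⟨fun i => (quasiIsoAt_iff _ _).2 ⟨?_⟩⟩
  let φ := (HomologicalComplex.shortComplexFunctor (Discrete T ⥤ B) (ComplexShape.up ℤ) i).map (famMap f)
  haveI : ∀ a, IsIso ((ShortComplex.homologyMap φ).app a) := fun a => by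
    have hq : ShortComplex.QuasiIso (((evaluation (Discrete T) B).obj a).mapShortComplex.map φ) :=
      (quasiIsoAt_iff (f a.as) i).1 ((hf a.as).quasiIsoAt i)
    haveI := hq.1
    exact (NatIso.isIso_map_iff (ShortComplex.homologyFunctorIso ((evaluation (Discrete T) B).obj a)) φ).1 hq.1
  exact NatIso.isIso_of_isIso_app _

variable [HasLimitsOfShape (Discrete T) B]

/-- The limit fan of complexes computed termwise. -/
noncomputable def fan (X : T → CochainComplex B ℤ) : Fan X :=
  Fan.mk ((lim (J := Discrete T) (C := B)).mapHomologicalComplex (ComplexShape.up ℤ) |>.obj (fam X)) fun a =>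
    { f := fun i => limit.π (Discrete.functor fun a => (X a).X i) ⟨a⟩
      comm' := fun i j _ => (limMap_π ((fam X).d i j) ⟨a⟩).symm }

noncomputable def isLimitFan (X : T → CochainComplex B ℤ) : IsLimit (fan X) :=
  HomologicalComplex.isLimitOfEval _ _ fun i =>
    (isLimitMapConeFanMkEquiv (HomologicalComplex.eval B (ComplexShape.up ℤ) i) X _).symm
      (IsLimit.ofIsoLimit (limit.isLimit (Discrete.functor fun a => (X a).X i)) (Cone.ext (Iso.refl _) fun ⟨a⟩ => by simp))

theorem quasiIso_lim [HasExactLimitsOfShape (Discrete T) B] {X Y : T → CochainComplex B ℤ} (f : ∀ a, X a ⟶ Y a)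
    (hf : ∀ a, QuasiIso (f a)) : ∃ g : (fan X).pt ⟶ (fan Y).pt, QuasiIso g ∧ ∀ a, g ≫ (fan Y).proj a = (fan X).proj a ≫ f a := by
  haveI := quasiIso_famMap f hf
  haveI : (lim (J := Discrete T) (C := B)).Additive := Functor.additive_of_preserves_binary_products _
  haveI : PreservesFiniteLimits (lim (J := Discrete T) (C := B)) :=
    ((constLimAdj : _ ⊣ (lim (J := Discrete T) (C := B))).rightAdjoint_preservesLimits : PreservesLimitsOfSize.{0, 0} _).preservesFiniteLimits
  refine ⟨((lim (J := Discrete T) (C := B)).mapHomologicalComplex (ComplexShape.up ℤ)).map (famMap f), inferInstance, fun a => ?_⟩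
  ext i
  exact limMap_π ((famMap f).f i) ⟨a⟩

variable [HasDerivedCategory.{w} B]

open DerivedCategory (Q)

/-- With exact products, a product of complexes is a product in the derived category. -/
theorem isLimit_Q [HasExactLimitsOfShape (Discrete T) B] {X : T → CochainComplex B ℤ} (c : Fan X) (hc : IsLimit c) :
    Nonempty (IsLimit (Fan.mk (Q.obj c.pt) fun a => (Q : CochainComplex B ℤ ⥤ DerivedCategory B).map (c.proj a))) := by
  suffices key : ∀ (Z : DerivedCategory B) (g : ∀ a, Z ⟶ Q.obj (X a)),
      ∃! l : Z ⟶ Q.obj (fan X).pt, ∀ a, l ≫ Q.map ((fan X).proj a) = g a by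
    let e : (fan X).pt ≅ c.pt := (isLimitFan X).conePointUniqueUpToIso hc
    refine ⟨IsLimit.ofIsoLimit (mkFanLimit (Fan.mk (Q.obj (fan X).pt) fun a => Q.map ((fan X).proj a))
      (fun s => (key s.pt s.proj).exists.choose) (fun s => (key s.pt s.proj).exists.choose_spec)
      fun s m hm => (key s.pt s.proj).unique hm (key s.pt s.proj).exists.choose_spec) (Fan.ext (Q.mapIso e) fun a => ?_)⟩
    exact ((congrArg Q.map (IsLimit.conePointUniqueUpToIso_hom_comp (isLimitFan X) hc ⟨a⟩)).symm.trans (Q.map_comp _ _))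
  intro Z g
  haveI : (Q : CochainComplex B ℤ ⥤ DerivedCategory B).EssSurj :=
    Localization.essSurj _ (HomologicalComplex.quasiIso B (ComplexShape.up ℤ))
  let K := Q.objPreimage Z
  let e : Q.obj K ≅ Z := Q.objObjPreimageIso Z
  choose Y f s hs hfac using fun a => DerivedCategory.left_fac (e.hom ≫ g a)
  haveI := hs
  have hs' : ∀ a, QuasiIso (s a) := fun a => by rw [← DerivedCategory.isIso_Q_map_iff_quasiIso]; exact hs a
  obtain ⟨S, hS, hSπ⟩ := quasiIso_lim s hs'
  haveI : IsIso ((Q : CochainComplex B ℤ ⥤ DerivedCategory B).map S) := by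
    rw [DerivedCategory.isIso_Q_map_iff_quasiIso]; exact hS
  let F := Fan.IsLimit.lift (isLimitFan Y) f
  refine ⟨e.inv ≫ Q.map F ≫ CategoryTheory.inv (Q.map S), fun a => ?_, fun l hl => ?_⟩
  · rw [← cancel_epi e.hom, hfac, Category.assoc, e.hom_inv_id_assoc, ← cancel_mono (Q.map (s a)), Category.assoc,
      Category.assoc, Category.assoc, IsIso.inv_hom_id, Category.comp_id, ← Q.map_comp, ← hSπ, Q.map_comp,
      IsIso.inv_hom_id_assoc, ← Q.map_comp]
    exact congrArg Q.map (Fan.IsLimit.fac (isLimitFan Y) f a)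
  · rw [← cancel_epi e.hom, e.hom_inv_id_assoc, IsIso.eq_comp_inv]
    obtain ⟨K', r, hr, u, hu⟩ := DerivedCategory.right_fac ((e.hom ≫ l) ≫ Q.map S)
    haveI := hr
    rw [hu, IsIso.inv_comp_eq, ← Q.map_comp]
    have h : ∀ a, Q.map (u ≫ (fan Y).proj a) = Q.map ((r ≫ F) ≫ (fan Y).proj a) := fun a => by
      have e1 : Q.map u = Q.map r ≫ (e.hom ≫ l) ≫ Q.map S := by rw [hu, IsIso.hom_inv_id_assoc]
      rw [Q.map_comp, e1, Category.assoc, Category.assoc, Category.assoc, ← Q.map_comp, hSπ, Q.map_comp,
        reassoc_of% (hl a), ← Category.assoc e.hom, hfac, Category.assoc, Category.assoc, IsIso.inv_hom_id, Category.comp_id,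
        ← Q.map_comp]
      exact congrArg (fun z => Q.map (r ≫ z)) (Fan.IsLimit.fac (isLimitFan Y) f a).symm
    let W := HomotopyCategory.quasiIso B (ComplexShape.up ℤ)
    have h' : ∀ a, ∃ (V : CochainComplex B ℤ) (k : Y a ⟶ V), QuasiIso k ∧
        Nonempty (Homotopy ((u ≫ (fan Y).proj a) ≫ k) (((r ≫ F) ≫ (fan Y).proj a) ≫ k)) := fun a => by
      have hQ : DerivedCategory.Qh.map ((HomotopyCategory.quotient B (ComplexShape.up ℤ)).map (u ≫ (fan Y).proj a)) =
          DerivedCategory.Qh.map ((HomotopyCategory.quotient B (ComplexShape.up ℤ)).map ((r ≫ F) ≫ (fan Y).proj a)) := by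
        have n1 := (DerivedCategory.quotientCompQhIso B).hom.naturality (u ≫ (fan Y).proj a)
        have n2 := (DerivedCategory.quotientCompQhIso B).hom.naturality ((r ≫ F) ≫ (fan Y).proj a)
        rw [h a, ← n2] at n1
        exact (cancel_mono _).1 n1
      obtain ⟨V, k, hk, hk'⟩ := (MorphismProperty.map_eq_iff_postcomp DerivedCategory.Qh W _ _).1 hQ
      obtain ⟨V', rfl⟩ := HomotopyCategory.quotient_obj_surjective V
      obtain ⟨k', rfl⟩ := (HomotopyCategory.quotient B (ComplexShape.up ℤ)).map_surjective k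
      exact ⟨V', k', (HomotopyCategory.quotient_map_mem_quasiIso_iff k').1 hk,
        ⟨HomotopyCategory.homotopyOfEq _ _ (by rw [Functor.map_comp, Functor.map_comp]; exact hk')⟩⟩
    choose V k hk H using h'
    obtain ⟨Kp, hKp, hKπ⟩ := quasiIso_lim k hk
    haveI : IsIso ((Q : CochainComplex B ℤ ⥤ DerivedCategory B).map Kp) := by
      rw [DerivedCategory.isIso_Q_map_iff_quasiIso]; exact hKp
    rw [← cancel_mono (Q.map Kp), ← Q.map_comp, ← Q.map_comp]
    have hlim : ∀ i, IsLimit (Fan.mk ((fan V).pt.X i) fun a => ((fan V).proj a).f i) := fun i =>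
      isLimitFanMkObjOfIsLimit (HomologicalComplex.eval B (ComplexShape.up ℤ) i) V _ (isLimitFan V)
    have hh : Homotopy (u ≫ Kp) ((r ≫ F) ≫ Kp) :=
      { hom := fun i j => Fan.IsLimit.lift (hlim j) fun a => (H a).some.hom i j
        zero := fun i j hij => Fan.IsLimit.hom_ext (hlim j) _ _ fun a => by
          rw [Fan.IsLimit.fac, zero_comp]; exact (H a).some.zero i j hij
        comm := fun i => Fan.IsLimit.hom_ext (hlim i) _ _ fun a => by
          have e := (H a).some.comm i
          have f1 := Fan.IsLimit.fac (hlim (i - 1)) (fun a => (H a).some.hom i (i - 1)) a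
          have f2 := Fan.IsLimit.fac (hlim i) (fun a => (H a).some.hom (i + 1) i) a
          have p1 := congrArg (fun z => HomologicalComplex.Hom.f z i) (hKπ a)
          have p2 := ((fan V).proj a).comm (i - 1) i
          simp only [dNext_eq _ (show (ComplexShape.up ℤ).Rel i (i + 1) by simp),
            prevD_eq _ (show (ComplexShape.up ℤ).Rel (i - 1) i by simp), HomologicalComplex.comp_f] at e ⊢
          dsimp at f1 f2 p1 ⊢
          simp only [Preadditive.add_comp, Category.assoc, f2, ← p2, reassoc_of% f1, p1] at e ⊢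
          exact e }
    exact HomologicalComplexUpToQuasiIso.Q_map_eq_of_homotopy hh

end Groth.Agent.ExactProd8
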